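import Cfsg.Agent.H762.EPV.Three
import Cfsg.Agent.H173.EP.LineBound

/-!
# S3499-V: UB1 + UB2 without condition on `|A|` (helper762)

`index_le_three` : exact factorisation of `|A|`;  `index_le_three_dvd` : `|A|` divides `N`, factorisation of `N`.
-/

set_option autoImplicit false

namespace Cfsg.Agent.H762.EPV

open Subgroup Cfsg.Agent.H284 Cfsg.Agent.H59.EP

universe u

theorem gal_mono {s a b : ℕ} (hs : 0 < s) (hab : a ≤ b) : gal s a ≤ gal s b := by
  unfold gal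
  refine (Finset.sum_le_sum fun j _ => ?_).trans (Finset.sum_le_sum_of_subset (Finset.Icc_subset_Icc_right hab))
  exact Nat.div_le_div_right (Finset.prod_le_prod' fun i _ => Nat.sub_le_sub_right (Nat.pow_le_pow_right hs hab) _)

theorem galSum_dvd {n N : ℕ} (hN : N ≠ 0) (h : n ∣ N) : galSum n ≤ galSum N := by
  unfold galSum
  refine (Finset.sum_le_sum fun s hs => ?_).trans
    (Finset.sum_le_sum_of_subset (Nat.primeFactors_mono h hN))
  exact gal_mono (Nat.prime_of_mem_primeFactors hs).pos ((Nat.factorization_le_iff_dvd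
    (fun h0 => hN (by rw [h0, zero_dvd_iff] at h; exact h)) hN).2 h s)

variable {Q : Type u} [Group Q] [Finite Q] {A : Subgroup Q} {Γ : Subgroup (MulAut Q)}

/-- **UB1 + UB3**: `|A|` given by its factorisation `l`, no condition on the exponents. -/
theorem index_le_three (hg0 : TwoGen.{0}) (hs : IsSimpleGroup Q) (h : EPT A Γ)
    (hab : ∀ K : Subgroup Q, K ≤ A → (∀ a ∈ A, ∀ k ∈ K, a * k * a⁻¹ ∈ K) → (∀ a ∈ K, ∀ b ∈ K, a * b = b * a) → K = ⊥)
    (hB : Nat.card A < 60 ^ 61) (l : List (ℕ × ℕ)) (h1 : ∀ x ∈ l, x.1.Prime ∧ 0 < x.2) (h2 : (l.map Prod.fst).Nodup)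
    (hc : Nat.card A = (l.map fun x => x.1 ^ x.2).prod) :
    A.index ≤ 1 + ((l.map fun x => gal x.1 x.2).sum * (Nat.card A / 6) + Nat.card A ^ 2 / 60 +
      Nat.card A ^ 3 / 3600) * (2 * (Nat.card A / 6)) :=
  index_le_of (EPT.ncard_le_list' h hg0 hab hB l h1 h2 hc)
    (Cfsg.Agent.H173.EP.ub1 hs h (by norm_num) fun _ hx => Cfsg.Agent.H59.EP.EPT.six_le h hab hx) le_rfl

/-- **UB1 + UB3**, monotone form: `|A| ∣ N`, `l` the factorisation of `N < 60 ^ 61`. -/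
theorem index_le_three_dvd (hg0 : TwoGen.{0}) (hs : IsSimpleGroup Q) (h : EPT A Γ)
    (hab : ∀ K : Subgroup Q, K ≤ A → (∀ a ∈ A, ∀ k ∈ K, a * k * a⁻¹ ∈ K) → (∀ a ∈ K, ∀ b ∈ K, a * b = b * a) → K = ⊥)
    {N : ℕ} (hAN : Nat.card A ∣ N) (hB : N < 60 ^ 61) (l : List (ℕ × ℕ)) (h1 : ∀ x ∈ l, x.1.Prime ∧ 0 < x.2)
    (h2 : (l.map Prod.fst).Nodup) (hc : N = (l.map fun x => x.1 ^ x.2).prod) :
    A.index ≤ 1 + ((l.map fun x => gal x.1 x.2).sum * (N / 6) + N ^ 2 / 60 + N ^ 3 / 3600) * (2 * (N / 6)) := by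
  have hl := galSum_list l h1 h2
  rw [← hc] at hl
  have hN : N ≠ 0 := hl.2.1
  have hle : Nat.card A ≤ N := Nat.le_of_dvd (Nat.pos_of_ne_zero hN) hAN
  have h3 := EPT.ncard_le_of' h hg0 (by norm_num) (fun _ hx => Cfsg.Agent.H59.EP.EPT.six_le h hab hx)
    (lt_of_le_of_lt hle hB)
  have h4 := Cfsg.Agent.H173.EP.ub1 hs h (by norm_num) fun _ hx => Cfsg.Agent.H59.EP.EPT.six_le h hab hx
  refine h4.trans (Nat.add_le_add_left (Nat.mul_le_mul (h3.trans ?_) (Nat.mul_le_mul_left _ (Nat.div_le_div_right hle))) 1)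
  refine Nat.add_le_add (Nat.add_le_add ?_ ?_) ?_
  · rw [← hl.1]
    exact Nat.mul_le_mul (galSum_dvd hN hAN) (Nat.div_le_div_right hle)
  · exact Nat.div_le_div_right (Nat.pow_le_pow_left hle 2)
  · exact Nat.div_le_div_right (Nat.pow_le_pow_left hle 3)

end Cfsg.Agent.H762.EPV
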