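import Cfsg.Agent.H812.EP.Ly
import Cfsg.Agent.OddHalf.Table.OutRu

/-!
# S3499-V, the row `Ru` (helper762)

`|Ru| = 2^14 3^3 5^3 7 13 29` has no outer automorphisms; by the bounds of `H812.EP.card_le` the group is of order
less than `2 ^ 161`, and the prime `29` does not divide `|GL_n(q)|` for `q = 2, 3` and `n < 28`, `q = 4` and `n < 14`.
-/

set_option autoImplicit false

namespace Cfsg.Agent.H762.EPV

open Subgroup Cfsg Cfsg.Agent.H284 Cfsg.Agent.H419.EP Cfsg.Agent.H59.EP Cfsg.Agent.H812.EP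

/-- the automorphisms of `Ru` are inner -/
theorem inner_ru (α : MulAut Spor.Ru) : α ∈ (MulAut.conj : Spor.Ru →* MulAut Spor.Ru).range := by
  let e : Cfsg.Spor.Ru ≃* Cfsg.Agent.SporadicB.RuOrder.H := Cfsg.Agent.RuLat.Main.equiv
  obtain ⟨g, hg⟩ := Cfsg.Agent.OddHalf.Table.OutRu.inner ((e.symm.trans α).trans e)
  refine ⟨e.symm g, MulEquiv.ext fun x => e.injective ?_⟩
  have h1 := DFunLike.congr_fun hg (e x)
  rw [MulEquiv.trans_apply, MulEquiv.trans_apply, MulEquiv.symm_apply_apply, MulAut.conj_apply] at h1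
  rw [MulAut.conj_apply, map_mul, map_mul, map_inv, MulEquiv.apply_symm_apply, h1]

/-- **Row `Ru`** -/
theorem ru (hg : TwoGen.{0}) : BigOf (fun L _ => Spor.IsoRu L) := by
  rintro Q _ _ A Γ ι _ _ F _ _ S P b ⟨e⟩
  have hcard : Nat.card Spor.Ru = 145926144000 := Cfsg.Agent.RuLat.Main.main.2.1
  have hfin : Finite Spor.Ru := Nat.finite_of_card_ne_zero (by rw [hcard]; norm_num)
  have hA : Nat.card A = 145926144000 := by
    rw [← hcard]
    exact card_eq_of_inner (b.hasSoc' e) inner_ru
  have hQ := card_le hg b [(2, 14), (3, 3), (5, 3), (7, 1), (13, 1), (29, 1)]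
    (by
      intro x hx
      simp only [List.mem_cons, List.not_mem_nil, or_false] at hx
      rcases hx with rfl | rfl | rfl | rfl | rfl | rfl <;> norm_num) (by decide)
    (N := 145926144000) (by norm_num) (by rw [hA]) (by norm_num)
  refine kill b hQ (N := 145926144000) (q₁ := 5) (hcard ▸ soc_dvd (b.hasSoc' e)) (by decide +kernel)
    [(2, 29, 28), (3, 29, 28), (4, 29, 14)] (by decide +kernel) ?_ ?_
  · intro x hx
    simp only [List.mem_cons, List.not_mem_nil, or_false] at hx
    rcases hx with rfl | rfl | rfl <;> norm_num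
  · intro q h1 h2
    interval_cases q <;> decide

end Cfsg.Agent.H762.EPV
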