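import Cfsg.Agent.H59.EP.UB
import Cfsg.Agent.S5914
import Cfsg.Agent.PermutationGroups.Subdirect

/-!
# S3499-V: the number of two-point stabilisers, without condition on `|A|` (helper762)

`three_gen` : `S ^ k`, `k ≤ |S|`, `S` simple nonabelian, is generated by three elements.
`ncard_gen_le` : subgroups with trivial centre, of order at least `N`, generated by `d` elements: at most `|B| ^ d / N`.
`ncard_le` : `H59.EP.ncard_le` without the hypothesis `p ^ 2 ∤ |B|`, with the additional summand `|B| ^ 3 / 3600`.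
-/

set_option autoImplicit false

namespace Cfsg.Agent.H762.EPV

open Subgroup Cfsg.Agent.H284 Cfsg.Agent.H59.EP
open scoped commutatorElement

universe u

/-- powers of simple groups are generated by three elements -/
theorem three_gen {S : Type*} [Group S] [Finite S] [IsSimpleGroup S] (hna : ∃ a b : S, a * b ≠ b * a) {k : ℕ}
    (hk : k ≤ Nat.card S) (h2 : ∃ a b : S, closure ({a, b} : Set S) = ⊤) :
    ∃ t : Fin 3 → (Fin k → S), closure (Set.range t) = ⊤ := by
  classical
  haveI : Fintype S := Fintype.ofFinite S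
  obtain ⟨a, b, hab⟩ := h2
  obtain ⟨w⟩ := Function.Embedding.nonempty_of_card_le (α := Fin k) (β := S) (by
    rw [Fintype.card_fin, ← Nat.card_eq_fintype_card]; exact hk)
  let t : Fin 3 → (Fin k → S) := ![fun _ => a, fun _ => b, w]
  refine ⟨t, ?_⟩
  set M := closure (Set.range t) with hM
  have h0 : t 0 ∈ M := subset_closure ⟨0, rfl⟩
  have h1 : t 1 ∈ M := subset_closure ⟨1, rfl⟩
  have h3 : t 2 ∈ M := subset_closure ⟨2, rfl⟩
  have hsurj : ∀ i, ∀ s : S, ∃ x ∈ M, x i = s := by
    intro i s
    have h4 : M.map (Pi.evalMonoidHom (fun _ : Fin k => S) i) = ⊤ := by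
      rw [eq_top_iff, ← hab, closure_le]
      rintro x (rfl | rfl)
      · exact ⟨t 0, h0, rfl⟩
      · exact ⟨t 1, h1, rfl⟩
    have h5 : s ∈ M.map (Pi.evalMonoidHom (fun _ : Fin k => S) i) := by rw [h4]; exact mem_top _
    obtain ⟨x, hx, hx'⟩ := h5
    exact ⟨x, hx, hx'⟩
  rw [eq_top_iff]
  intro y _
  obtain ⟨x, hx, hxy⟩ := PermutationGroups.Subdirect.exists_mem_eq_on (T := fun _ : Fin k => S) (fun _ => hna) M hsurj
    Set.univ (by
      intro r _ s _ hrs
      by_contra hcon
      push Not at hcon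
      obtain ⟨φ, hφ⟩ := PermutationGroups.Subdirect.exists_mulEquiv (T := fun _ : Fin k => S) M (hsurj r) (hsurj s)
        hcon
      have e0 : φ a = a := hφ _ h0
      have e1 : φ b = b := hφ _ h1
      have e2 : ∀ z : S, φ z = z := by
        intro z
        have hz : z ∈ closure ({a, b} : Set S) := by rw [hab]; exact mem_top _
        have hle : closure ({a, b} : Set S) ≤ (φ.toMonoidHom).eqLocus (MonoidHom.id S) := by
          rw [closure_le]
          rintro x (rfl | rfl)
          · exact e0
          · exact e1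
        exact hle hz
      have e3 : φ (w s) = w r := hφ _ h3
      rw [e2] at e3
      exact hrs (w.injective e3.symm)) y
  have : x = y := funext fun r => hxy r (Set.mem_univ r)
  rw [← this]
  exact hx

/-- counting subgroups generated by `d` elements -/
theorem ncard_gen_le {B : Type*} [Group B] [Finite B] (d : ℕ) {𝒮 : Set (Subgroup B)} {N : ℕ} (hN : 0 < N)
    (hz : ∀ X ∈ 𝒮, center X = ⊥) (hcard : ∀ X ∈ 𝒮, N ≤ Nat.card X)
    (hgen : ∀ X ∈ 𝒮, ∃ t : Fin d → X, closure (Set.range t) = ⊤) : 𝒮.ncard ≤ Nat.card B ^ d / N := by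
  classical
  rw [Nat.le_div_iff_mul_le hN]
  have hfin : 𝒮.Finite := Set.toFinite _
  let G : Subgroup B → Set (Fin d → B) := fun X => {p | closure (Set.range p) = X}
  have hG : ∀ X ∈ 𝒮, N ≤ (G X).ncard := by
    intro X hX
    obtain ⟨t, ht⟩ := hgen X hX
    refine (hcard X hX).trans ?_
    have hcl : closure (Set.range fun i => (t i : B)) = X := by
      have h1 := congrArg (Subgroup.map X.subtype) ht
      rw [MonoidHom.map_closure, ← Set.range_comp, ← MonoidHom.range_eq_map, X.range_subtype] at h1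
      exact h1
    have hinj : Set.InjOn (fun (g : B) (i : Fin d) => g * (t i : B) * g⁻¹) (X : Set B) := by
      intro g hg k hk e
      have h1 : ∀ x ∈ X, (k⁻¹ * g) * x = x * (k⁻¹ * g) := by
        have hle : X ≤ centralizer {k⁻¹ * g} := by
          rw [← hcl, closure_le]
          rintro _ ⟨i, rfl⟩
          rw [SetLike.mem_coe, mem_centralizer_singleton_iff]
          have h2 : g * (t i : B) * g⁻¹ = k * (t i : B) * k⁻¹ := congrFun e i
          rw [mul_inv_eq_iff_eq_mul] at h2
          have h3 : k⁻¹ * (g * (t i : B)) = (t i : B) * k⁻¹ * g := by rw [h2]; group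
          show (t i : B) * (k⁻¹ * g) = k⁻¹ * g * (t i : B)
          rw [mul_assoc k⁻¹ g, h3, mul_assoc]
        intro x hx
        exact (mem_centralizer_singleton_iff.1 (hle hx)).symm
      have hzz : (⟨k⁻¹ * g, mul_mem (inv_mem hk) hg⟩ : X) ∈ center X := by
        rw [mem_center_iff]
        intro x
        exact Subtype.ext (h1 x x.2).symm
      rw [hz X hX, mem_bot] at hzz
      have h2 : k⁻¹ * g = 1 := Subtype.ext_iff.1 hzz
      rw [inv_mul_eq_one] at h2
      exact h2.symm
    have hc : Nat.card X = ((fun (g : B) (i : Fin d) => g * (t i : B) * g⁻¹) '' (X : Set B)).ncard := by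
      rw [hinj.ncard_image]
      rfl
    rw [hc]
    refine Set.ncard_le_ncard ?_ (Set.toFinite _)
    rintro _ ⟨g, hg, rfl⟩
    show closure (Set.range fun i => g * (t i : B) * g⁻¹) = X
    have h1 : (Set.range fun i => g * (t i : B) * g⁻¹) = (MulAut.conj g).toMonoidHom '' (Set.range fun i => (t i : B)) := by
      rw [← Set.range_comp]
      rfl
    rw [h1, ← MonoidHom.map_closure, hcl]
    ext y
    constructor
    · rintro ⟨x, hx, rfl⟩
      exact X.mul_mem (X.mul_mem hg hx) (X.inv_mem hg)
    · intro hy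
      refine ⟨g⁻¹ * y * g, X.mul_mem (X.mul_mem (X.inv_mem hg) hy) hg, ?_⟩
      show g * (g⁻¹ * y * g) * g⁻¹ = y
      group
  have hdis : (hfin.toFinset : Set (Subgroup B)).PairwiseDisjoint fun X => (Set.toFinite (G X)).toFinset := by
    intro X _ Y _ hne
    rw [Function.onFun, Finset.disjoint_left]
    intro p hp hq
    rw [Set.Finite.mem_toFinset] at hp hq
    exact hne (hp.symm.trans hq)
  have h1 : (hfin.toFinset.biUnion fun X => (Set.toFinite (G X)).toFinset).card ≤ Nat.card (Fin d → B) := by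
    have := Set.ncard_le_ncard (Set.subset_univ
      ((hfin.toFinset.biUnion fun X => (Set.toFinite (G X)).toFinset : Finset (Fin d → B)) : Set (Fin d → B)))
      (Set.toFinite _)
    rw [Set.ncard_coe_finset, Set.ncard_univ] at this
    exact this
  rw [Finset.card_biUnion hdis, Nat.card_pi, Finset.prod_const, Finset.card_univ, Fintype.card_fin] at h1
  refine le_trans ?_ h1
  rw [Set.ncard_eq_toFinset_card _ hfin, ← smul_eq_mul]
  apply Finset.card_nsmul_le_sum
  intro X hX
  rw [← Set.ncard_eq_toFinset_card _ (Set.toFinite _)]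
  exact hG X (hfin.mem_toFinset.1 hX)

/-- transport of generation along an isomorphism -/
theorem gen_congr {X Y : Type*} [Group X] [Group Y] (e : X ≃* Y) {d : ℕ}
    (h : ∃ t : Fin d → X, closure (Set.range t) = ⊤) : ∃ t : Fin d → Y, closure (Set.range t) = ⊤ := by
  obtain ⟨t, ht⟩ := h
  refine ⟨fun i => e (t i), ?_⟩
  have h1 := congrArg (Subgroup.map e.toMonoidHom) ht
  rw [MonoidHom.map_closure, ← Set.range_comp, Subgroup.map_top_of_surjective _ e.surjective] at h1
  exact h1

/-- the nonabelian characteristically simple groups of order less than `60 ^ 61` -/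
theorem char_simple' (hg0 : TwoGen.{0}) {X : Type*} [Group X] [Finite X] [Nontrivial X]
    (hc : ∀ Y : Subgroup X, Y.Characteristic → Y = ⊥ ∨ Y = ⊤) (hB : Nat.card X < 60 ^ 61)
    (hcomm : ¬ ∀ a b : X, a * b = b * a) :
    center X = ⊥ ∧ ((IsSimpleGroup X ∧ ¬ Group.IsSolvable X ∧ ∃ a b : X, closure ({a, b} : Set X) = ⊤) ∨
      (3600 ≤ Nat.card X ∧ ∃ t : Fin 3 → X, closure (Set.range t) = ⊤)) := by
  classical
  have hz : center X = ⊥ := by
    rcases hc (center X) inferInstance with h | h
    · exact h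
    · exfalso
      apply hcomm
      intro a b
      have : b ∈ center X := by rw [h]; exact mem_top _
      exact mem_center_iff.1 this a
  refine ⟨hz, ?_⟩
  obtain ⟨S, iS, hS, n, hn, ⟨e⟩⟩ := Cfsg.Agent.S5914.result.1 hc
  haveI : Finite (Fin n → S) := Finite.of_equiv X e.toEquiv
  haveI : Finite S := by
    refine Finite.of_injective (fun (s : S) (_ : Fin n) => s) ?_
    intro s s' h
    exact congrFun h ⟨0, by omega⟩
  have hna : ∃ a b : S, a * b ≠ b * a := by
    by_contra hcon
    push Not at hcon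
    apply hcomm
    intro a b
    apply e.injective
    rw [map_mul, map_mul]
    funext i
    exact hcon _ _
  have hSn : ¬ Group.IsSolvable S := by
    intro hsol
    have h1 : commutator S < ⊤ := Group.IsSolvable.commutator_lt_top_of_nontrivial S
    rcases hS.eq_bot_or_eq_top_of_normal (commutator S) inferInstance with h | h
    · obtain ⟨a, b, hab⟩ := hna
      apply hab
      have h2 : ⁅a, b⁆ ∈ commutator S := commutator_mem_commutator (mem_top _) (mem_top _)
      rw [h, mem_bot, commutatorElement_eq_one_iff_mul_comm] at h2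
      exact h2
    · exact h1.ne h
  have h60 := Cfsg.Agent.H168.NoSolv.sixty_le hSn
  have hcard : Nat.card X = Nat.card S ^ n := by
    rw [Nat.card_congr e.toEquiv, Nat.card_pi, Finset.prod_const, Finset.card_univ, Fintype.card_fin]
  obtain ⟨a, b, hab⟩ := hg0 S
  by_cases h1 : n = 1
  · left
    subst h1
    let e1 : (Fin 1 → S) ≃* S :=
      { toFun := fun f => f 0
        invFun := fun s _ => s
        left_inv := fun f => by
          funext i
          rw [Subsingleton.elim i 0]
        right_inv := fun s => rfl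
        map_mul' := fun f g => rfl }
    let E : X ≃* S := e.trans e1
    refine ⟨E.isSimpleGroup, fun h => hSn ?_, E.symm a, E.symm b, ?_⟩
    · exact Group.isSolvable_of_surjective (f := E.toMonoidHom) E.surjective
    · have h2 := congrArg (Subgroup.map E.symm.toMonoidHom) hab
      rw [MonoidHom.map_closure, Set.image_pair, Subgroup.map_top_of_surjective _ E.symm.surjective] at h2
      exact h2
  · right
    have hn2 : 2 ≤ n := by omega
    have hn60 : n ≤ 60 := by
      by_contra hlt
      push Not at hlt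
      have h2 : 60 ^ 61 ≤ Nat.card S ^ n :=
        (Nat.pow_le_pow_right (by norm_num) (by omega : 61 ≤ n)).trans (Nat.pow_le_pow_left h60 n)
      omega
    refine ⟨?_, gen_congr e.symm (three_gen hna (hn60.trans h60) ⟨a, b, hab⟩)⟩
    rw [hcard]
    calc 3600 = 60 ^ 2 := by norm_num
      _ ≤ 60 ^ n := Nat.pow_le_pow_right (by norm_num) hn2
      _ ≤ Nat.card S ^ n := Nat.pow_le_pow_left h60 n

/-- **Counting theorem**: `𝓜` a set of subgroups `M` of `B` of index at most `c`, with `N_B(K) ≤ M` for
all characteristic subgroups `K ≠ 1` of `M`. -/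
theorem ncard_le (hg0 : TwoGen.{0}) {B : Type*} [Group B] [Finite B] (hB : Nat.card B < 60 ^ 61)
    {𝓜 : Set (Subgroup B)} {c : ℕ} (hc : ∀ M ∈ 𝓜, M.index ≤ c) (hnt : ∀ M ∈ 𝓜, M ≠ ⊥)
    (hch : ∀ M ∈ 𝓜, ∀ K : Subgroup M, K.Characteristic → K ≠ ⊥ → ∀ b : B,
      (∀ k ∈ K.map M.subtype, b * k * b⁻¹ ∈ K.map M.subtype) → b ∈ M) :
    𝓜.ncard ≤ (∑ s ∈ (Nat.card B).primeFactors, gal s ((Nat.card B).factorization s)) * c + Nat.card B ^ 2 / 60 +
      Nat.card B ^ 3 / 3600 := by
  classical
  -- the minimal characteristic subgroup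
  have key : ∀ M ∈ 𝓜, ∃ X : Subgroup B, normalizer (X : Set B) = M ∧
      ((∃ s ∈ (Nat.card B).primeFactors, ElAb s X ∧ X ≠ ⊥) ∨
        ((IsSimpleGroup X ∧ ¬ Group.IsSolvable X) ∧ ∃ a b : X, closure ({a, b} : Set X) = ⊤) ∨
        (center X = ⊥ ∧ 3600 ≤ Nat.card X ∧ ∃ t : Fin 3 → X, closure (Set.range t) = ⊤)) := by
    intro M hM
    have hMn : Nontrivial M := (Subgroup.nontrivial_iff_ne_bot M).2 (hnt M hM)
    obtain ⟨Y, hY, hYne, hYmin⟩ := exists_min_char (B := M)
    have hYn : Nontrivial Y := (Subgroup.nontrivial_iff_ne_bot Y).2 hYne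
    have hYc : ∀ Z : Subgroup Y, Z.Characteristic → Z = ⊥ ∨ Z = ⊤ := by
      intro Z hZ
      by_cases hZb : Z = ⊥
      · exact Or.inl hZb
      right
      have h1 := hYmin (Z.map Y.subtype) char_trans (by
        rintro _ ⟨z, _, rfl⟩
        exact z.2) (by
        intro e
        rw [Subgroup.map_eq_bot_iff_of_injective _ Y.subtype_injective] at e
        exact hZb e)
      rw [Subgroup.eq_top_iff']
      intro y
      have h2 : (y : M) ∈ Z.map Y.subtype := by rw [h1]; exact y.2
      obtain ⟨z, hz, e⟩ := h2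
      have : z = y := Subtype.ext e
      rw [← this]
      exact hz
    set X : Subgroup B := Y.map M.subtype with hX
    have hcard : Nat.card X = Nat.card Y :=
      (Nat.card_congr (Y.equivMapOfInjective _ M.subtype_injective).toEquiv).symm
    have e : Y ≃* X := Y.equivMapOfInjective _ M.subtype_injective
    have hXB : Nat.card Y ∣ Nat.card B := by
      rw [← hcard]
      exact Subgroup.card_subgroup_dvd_card X
    have hYlt : Nat.card Y < 60 ^ 61 := lt_of_le_of_lt (Nat.le_of_dvd Nat.card_pos hXB) hB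
    have hXne : X ≠ ⊥ := by
      intro e
      rw [hX, Subgroup.map_eq_bot_iff_of_injective _ M.subtype_injective] at e
      exact hYne e
    refine ⟨X, ?_, ?_⟩
    · apply le_antisymm
      · intro b hb
        exact hch M hM Y hY hYne b fun k hk => (mem_normalizer_iff.1 hb k).1 hk
      · intro m hm
        have hn : Y.Normal := inferInstance
        rw [mem_normalizer_iff]
        have key : ∀ m ∈ M, ∀ k ∈ X, m * k * m⁻¹ ∈ X := by
          rintro m hm _ ⟨k, hk, rfl⟩
          exact ⟨_, hn.conj_mem k hk ⟨m, hm⟩, rfl⟩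
        intro k
        refine ⟨key m hm k, fun h => ?_⟩
        have := key m⁻¹ (M.inv_mem hm) _ h
        have e : m⁻¹ * (m * k * m⁻¹) * m⁻¹⁻¹ = k := by group
        rwa [e] at this
    · by_cases hcomm : ∀ a b : Y, a * b = b * a
      · left
        obtain ⟨s, hs, hsd⟩ := Nat.exists_prime_and_dvd (n := Nat.card Y) (by
          have := Finite.one_lt_card (α := Y)
          omega)
        have : Fact s.Prime := ⟨hs⟩
        obtain ⟨x, hx⟩ := exists_prime_orderOf_dvd_card' s hsd
        let Z : Subgroup Y :=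
          { carrier := {y | y ^ s = 1}
            one_mem' := one_pow s
            mul_mem' := fun {a b} ha hb => by
              show (a * b) ^ s = 1
              rw [(show Commute a b from hcomm a b).mul_pow, show a ^ s = 1 from ha, show b ^ s = 1 from hb, one_mul]
            inv_mem' := fun {a} ha => by
              show a⁻¹ ^ s = 1
              rw [inv_pow, show a ^ s = 1 from ha, inv_one] }
        have hZ : Z.Characteristic := by
          rw [characteristic_iff_map_le]
          rintro φ _ ⟨y, hy, rfl⟩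
          show (φ y) ^ s = 1
          rw [← map_pow, show y ^ s = 1 from hy, map_one]
        have hexp : ∀ a : Y, a ^ s = 1 := by
          rcases hYc Z hZ with h | h
          · exfalso
            have h1 : x ∈ Z := by
              show x ^ s = 1
              rw [← hx, pow_orderOf_eq_one]
            rw [h, mem_bot] at h1
            rw [h1, orderOf_one] at hx
            exact hs.one_lt.ne hx
          · intro a
            have h1 : a ∈ Z := by rw [h]; exact mem_top _
            exact h1
        refine ⟨s, Nat.mem_primeFactors.2 ⟨hs, hsd.trans hXB, Nat.card_pos.ne'⟩, ⟨?_, ?_⟩, hXne⟩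
        · rintro _ ⟨a, ha, rfl⟩ _ ⟨b, hb, rfl⟩
          have := hcomm ⟨a, ha⟩ ⟨b, hb⟩
          have h1 : a * b = b * a := Subtype.ext_iff.1 this
          rw [← map_mul, ← map_mul, h1]
        · rintro _ ⟨a, ha, rfl⟩
          have := hexp ⟨a, ha⟩
          have h1 : a ^ s = 1 := Subtype.ext_iff.1 this
          rw [← map_pow, h1, map_one]
      · right
        obtain ⟨hz, h⟩ := char_simple' hg0 hYc hYlt hcomm
        rcases h with ⟨h1, h2, a, b, hab⟩ | ⟨h1, h2⟩
        · left
          have hXs : IsSimpleGroup X := e.symm.isSimpleGroup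
          refine ⟨⟨hXs, fun h => h2 ?_⟩, e a, e b, ?_⟩
          · exact Group.isSolvable_of_isSolvable_injective (f := e.toMonoidHom) e.injective
          · have h2 := congrArg (Subgroup.map e.toMonoidHom) hab
            rw [MonoidHom.map_closure, Set.image_pair, Subgroup.map_top_of_surjective _ e.surjective] at h2
            exact h2
        · right
          refine ⟨?_, by rw [hcard]; exact h1, gen_congr e h2⟩
          rw [Subgroup.eq_bot_iff_forall]
          intro x hx
          have h3 : e.symm x ∈ center Y := by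
            rw [mem_center_iff]
            intro y
            apply e.injective
            rw [map_mul, map_mul, MulEquiv.apply_symm_apply]
            exact mem_center_iff.1 hx _
          rw [hz, mem_bot] at h3
          exact e.symm.map_eq_one_iff.1 h3
  choose! f hf1 hf2 using key
  have hinj : Set.InjOn f 𝓜 := by
    intro M hM N hN e
    rw [← hf1 M hM, ← hf1 N hN, e]
  rw [← hinj.ncard_image]
  have hsub : f '' 𝓜 ⊆ ((⋃ s ∈ (Nat.card B).primeFactors,
      {X : Subgroup B | ElAb s X ∧ X ≠ ⊥ ∧ (normalizer (X : Set B)).index ≤ c}) ∪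
      {X : Subgroup B | (IsSimpleGroup X ∧ ¬ Group.IsSolvable X) ∧ ∃ a b : X, closure ({a, b} : Set X) = ⊤}) ∪
      {X : Subgroup B | center X = ⊥ ∧ 3600 ≤ Nat.card X ∧ ∃ t : Fin 3 → X, closure (Set.range t) = ⊤} := by
    rintro _ ⟨M, hM, rfl⟩
    rcases hf2 M hM with ⟨s, hs, h1, h2⟩ | h | h
    · left; left
      simp only [Set.mem_iUnion]
      exact ⟨s, hs, h1, h2, by rw [hf1 M hM]; exact hc M hM⟩
    · left; right
      exact h
    · right
      exact h
  refine (Set.ncard_le_ncard hsub (Set.toFinite _)).trans ((Set.ncard_union_le _ _).trans (Nat.add_le_add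
    ((Set.ncard_union_le _ _).trans (Nat.add_le_add ?_ ?_)) ?_))
  · have hun : ∀ I : Finset ℕ, (⋃ s ∈ I, {X : Subgroup B | ElAb s X ∧ X ≠ ⊥ ∧
        (normalizer (X : Set B)).index ≤ c}).ncard ≤
        ∑ s ∈ I, {X : Subgroup B | ElAb s X ∧ X ≠ ⊥ ∧ (normalizer (X : Set B)).index ≤ c}.ncard := by
      intro I
      induction I using Finset.induction_on with
      | empty => simp
      | insert j I hj ih =>
        rw [Finset.sum_insert hj, Finset.set_biUnion_insert]
        exact (Set.ncard_union_le _ _).trans (Nat.add_le_add_left ih _)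
    refine (hun _).trans ?_
    rw [Finset.sum_mul]
    exact Finset.sum_le_sum fun s hs => ncard_elab_class_le (Nat.prime_of_mem_primeFactors hs)
  · exact ncard_simple_le (fun X hX => hX.1) (fun X hX => hX.2)
  · exact ncard_gen_le 3 (by norm_num) (fun X hX => hX.1) (fun X hX => hX.2.1) (fun X hX => hX.2.2)

variable {Q : Type u} [Group Q] [Finite Q] {A : Subgroup Q} {Γ : Subgroup (MulAut Q)}

/-- the number of two-point stabilisers, `μ` a lower bound for their orders -/
theorem EPT.ncard_le_of' (h : EPT A Γ) (hg0 : TwoGen.{0}) {μ : ℕ} (hμ0 : 0 < μ)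
    (hμ : ∀ x, x ∉ A → μ ≤ Nat.card (A ⊓ cj x A : Subgroup Q)) (hB : Nat.card A < 60 ^ 61) :
    {M : Subgroup Q | ∃ x, x ∉ A ∧ M = A ⊓ cj x A}.ncard ≤
      (∑ s ∈ (Nat.card A).primeFactors, gal s ((Nat.card A).factorization s)) * (Nat.card A / μ) +
        Nat.card A ^ 2 / 60 + Nat.card A ^ 3 / 3600 := by
  classical
  set 𝓜 : Set (Subgroup A) := {M | ∃ x, x ∉ A ∧ M = (A ⊓ cj x A).subgroupOf A} with h𝓜
  have h1 : {M : Subgroup Q | ∃ x, x ∉ A ∧ M = A ⊓ cj x A}.ncard ≤ 𝓜.ncard := by
    refine Set.ncard_le_ncard_of_injOn (fun M => M.subgroupOf A) ?_ ?_ (Set.toFinite _)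
    · rintro _ ⟨x, hx, rfl⟩
      exact ⟨x, hx, rfl⟩
    · rintro _ ⟨x, _, rfl⟩ _ ⟨y, _, rfl⟩ e
      have e1 := congrArg (Subgroup.map A.subtype) e
      simp only [Subgroup.subgroupOf_map_subtype] at e1
      rw [inf_eq_left.2 (inf_le_left : A ⊓ cj x A ≤ A), inf_eq_left.2 (inf_le_left : A ⊓ cj y A ≤ A)] at e1
      exact e1
  refine h1.trans (ncard_le hg0 hB ?_ ?_ ?_)
  · rintro _ ⟨x, hx, rfl⟩
    have hc : Nat.card ((A ⊓ cj x A).subgroupOf A) = Nat.card (A ⊓ cj x A : Subgroup Q) :=
      Nat.card_congr (Subgroup.subgroupOfEquivOfLe inf_le_left).toEquiv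
    have hmul := ((A ⊓ cj x A).subgroupOf A).card_mul_index
    rw [hc] at hmul
    rw [Nat.le_div_iff_mul_le hμ0, ← hmul, mul_comm]
    exact Nat.mul_le_mul_right _ (hμ x hx)
  · rintro _ ⟨x, hx, rfl⟩ e
    apply h.M0 x hx
    rw [Subgroup.subgroupOf_eq_bot] at e
    exact e.eq_bot_of_le inf_le_left
  · rintro _ ⟨x, hx, rfl⟩ K hK hne b hb
    set E : (A ⊓ cj x A).subgroupOf A ≃* (A ⊓ cj x A : Subgroup Q) :=
      Subgroup.subgroupOfEquivOfLe (inf_le_left : A ⊓ cj x A ≤ A) with hE
    have hch := char_map E hK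
    have hn := h.norm_char hx (K.map E.toMonoidHom) (hK := hch) (by
      intro e
      rw [Subgroup.map_eq_bot_iff_of_injective _ E.injective] at e
      exact hne e) (a := (b : Q)) b.2 (by
      rintro _ ⟨_, ⟨k, hk, rfl⟩, rfl⟩
      obtain ⟨k', hk', e'⟩ := hb _ ⟨k, hk, rfl⟩
      refine ⟨_, ⟨k', hk', rfl⟩, ?_⟩
      have e2 := congrArg (Subtype.val) e'
      exact e2)
    exact ⟨b.2, hn⟩

/-- **UB3, evaluated**: `|A|` given by its factorisation `l`, no condition on the exponents. -/
theorem EPT.ncard_le_list' (h : EPT A Γ) (hg0 : TwoGen.{0})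
    (hab : ∀ K : Subgroup Q, K ≤ A → (∀ a ∈ A, ∀ k ∈ K, a * k * a⁻¹ ∈ K) → (∀ a ∈ K, ∀ b ∈ K, a * b = b * a) → K = ⊥)
    (hB : Nat.card A < 60 ^ 61) (l : List (ℕ × ℕ)) (h1 : ∀ x ∈ l, x.1.Prime ∧ 0 < x.2) (h2 : (l.map Prod.fst).Nodup)
    (hc : Nat.card A = (l.map fun x => x.1 ^ x.2).prod) :
    {M : Subgroup Q | ∃ x, x ∉ A ∧ M = A ⊓ cj x A}.ncard ≤
      (l.map fun x => gal x.1 x.2).sum * (Nat.card A / 6) + Nat.card A ^ 2 / 60 + Nat.card A ^ 3 / 3600 := by
  have h3 := EPT.ncard_le_of' h hg0 (by norm_num) (fun _ hx => Cfsg.Agent.H59.EP.EPT.six_le h hab hx) hB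
  have h4 : ∑ s ∈ (Nat.card A).primeFactors, gal s ((Nat.card A).factorization s) =
      (l.map fun x => gal x.1 x.2).sum := by
    rw [hc]
    exact (galSum_list l h1 h2).1
  rwa [h4] at h3

end Cfsg.Agent.H762.EPV
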